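import Groth.Prelude.Def_DTen
import Mathlib.Algebra.Homology.DerivedCategory.Linear
import Mathlib.Algebra.Homology.DerivedCategory.SingleTriangle
import Groth.Agent.KFlatLib.Ring.SymMonoidal

set_option autoImplicit false
universe u
open CategoryTheory CategoryTheory.Limits MonoidalCategory Pretriangulated
attribute [local instance] HasDerivedCategory.standard

namespace Groth.Agent.ArtinRees13
variable {A : Type u} [CommRing A]

/-- the single functor into D(A), written as in the statements -/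
noncomputable abbrev S (A : Type u) [CommRing A] : ModuleCat.{u} A ⥤ Dual.D A :=
  HomologicalComplex.single (ModuleCat.{u} A) (ComplexShape.up ℤ) 0 ⋙ DerivedCategory.Q

lemma S_map_smul {X Y : ModuleCat.{u} A} (r : A) (f : X ⟶ Y) :
    (S A).map (r • f) = r • (S A).map f :=
  (DerivedCategory.singleFunctor (ModuleCat.{u} A) 0).map_smul r f

lemma S_map_zero {X Y : ModuleCat.{u} A} : (S A).map (0 : X ⟶ Y) = 0 :=
  (DerivedCategory.singleFunctor (ModuleCat.{u} A) 0).map_zero X Y

/-- a map out of `M` that kills a submodule factors through the quotient -/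
lemma exists_desc {M : Type u} [AddCommGroup M] [Module A M] (N : Submodule A M) {C : Dual.D A}
    (φ : (S A).obj (ModuleCat.of A M) ⟶ C)
    (h : (S A).map (ModuleCat.ofHom N.subtype) ≫ φ = 0) :
    ∃ ψ : (S A).obj (ModuleCat.of A (M ⧸ N)) ⟶ C, φ = (S A).map (ModuleCat.ofHom N.mkQ) ≫ ψ := by
  let T : ShortComplex (ModuleCat.{u} A) := ShortComplex.mk (ModuleCat.ofHom N.subtype)
    (ModuleCat.ofHom N.mkQ) (by ext x; simp)
  have hT : T.ShortExact :=
    { exact := (ShortComplex.moduleCat_exact_iff T).2 fun x hx =>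
        ⟨⟨x, (Submodule.Quotient.mk_eq_zero N).1 hx⟩, rfl⟩
      mono_f := (ModuleCat.mono_iff_injective _).2 N.injective_subtype
      epi_g := (ModuleCat.epi_iff_surjective _).2 N.mkQ_surjective }
  exact Triangle.yoneda_exact₂ _ hT.singleTriangle_distinguished φ h

/-- principal step -/
lemma principal [IsNoetherianRing A] {M : Type u} [AddCommGroup M] [Module A M] [Module.Finite A M]
    (f : A) {C : Dual.D A} (hC : (f * f) • 𝟙 C = 0) (φ : (S A).obj (ModuleCat.of A M) ⟶ C) :
    ∃ e : ℕ, (S A).map (ModuleCat.ofHom ((Ideal.span {f}) ^ e • (⊤ : Submodule A M)).subtype) ≫ φ = 0 := by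
  let K : ℕ →o Submodule A M := ⟨fun n => LinearMap.ker ((f ^ n) • (LinearMap.id : M →ₗ[A] M)),
    fun a b hab x hx => by
      simp only [LinearMap.mem_ker, LinearMap.smul_apply, LinearMap.id_apply] at hx ⊢
      rw [← Nat.sub_add_cancel hab, pow_add, mul_smul, hx, smul_zero]⟩
  obtain ⟨c, hc⟩ := monotone_stabilizes_iff_noetherian.2 (isNoetherian_of_isNoetherianRing_of_finite A M) K
  have hker : ∀ x : M, f ^ (c + 2) • x = 0 → f ^ c • x = 0 := fun x hx => by
    have := (hc (c + 2) (by omega)).ge (show x ∈ K (c + 2) by simpa [K] using hx)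
    simpa [K] using this
  refine ⟨c + 2, ?_⟩
  set R := (Ideal.span {f}) ^ (c + 2) • (⊤ : Submodule A M)
  have hR : ∀ x : R, ∃ y : M, f ^ (c + 2) • y = (x : M) := fun x => by
    have hx : (x : M) ∈ (Ideal.span {f}) ^ (c + 2) • (⊤ : Submodule A M) := x.2
    rw [Ideal.span_singleton_pow, Submodule.ideal_span_singleton_smul] at hx
    obtain ⟨y, -, hy⟩ := Submodule.mem_smul_pointwise_iff_exists _ _ _ |>.1 hx
    exact ⟨y, hy⟩
  choose g hg using hR
  have huniq : ∀ (x : R) (y : M), f ^ (c + 2) • y = (x : M) → f ^ c • y = f ^ c • g x := fun x y hy => by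
    rw [← sub_eq_zero, ← smul_sub]
    exact hker _ (by rw [smul_sub, hy, hg, sub_self])
  let τ : R →ₗ[A] M :=
    { toFun := fun x => f ^ c • g x
      map_add' := fun x y => by
        rw [← smul_add]; exact (huniq (x + y) _ (by rw [smul_add, hg, hg]; rfl)).symm
      map_smul' := fun r x => by
        rw [RingHom.id_apply, smul_comm r (f ^ c)]
        exact (huniq (r • x) _ (by rw [smul_comm, hg]; rfl)).symm }
  have hτ : ModuleCat.ofHom R.subtype = (f * f) • ModuleCat.ofHom τ := by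
    ext x
    change (x : M) = (f * f) • (f ^ c • g x)
    rw [← hg x, smul_smul, pow_add, sq, mul_comm]
  rw [hτ, S_map_smul, Linear.smul_comp, ← Linear.comp_smul, ← Category.comp_id φ, ← Linear.comp_smul,
    hC, comp_zero, comp_zero]

lemma induction_aux [IsNoetherianRing A] (s : Finset A) :
    ∀ {M : Type u} [AddCommGroup M] [Module A M] [Module.Finite A M] {C : Dual.D A},
      (∀ f ∈ s, (f * f) • 𝟙 C = 0) → ∀ φ : (S A).obj (ModuleCat.of A M) ⟶ C,
      ∃ n : ℕ, (S A).map (ModuleCat.ofHom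
        ((Ideal.span (s : Set A)) ^ n • (⊤ : Submodule A M)).subtype) ≫ φ = 0 := by
  classical
  induction s using Finset.induction with
  | empty =>
    intro M _ _ _ C _ φ
    refine ⟨1, ?_⟩
    have : ModuleCat.ofHom ((Ideal.span ((∅ : Finset A) : Set A)) ^ 1 • (⊤ : Submodule A M)).subtype = 0 := by
      ext x
      have := x.2
      simp at this
      simpa using this
    rw [this, S_map_zero, zero_comp]
  | insert f s _ ih =>
    intro M _ _ _ C hC φ
    obtain ⟨a, ha⟩ := ih (C := C) (fun g hg => hC g (Finset.mem_insert_of_mem hg)) φ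
    set N := (Ideal.span (s : Set A)) ^ a • (⊤ : Submodule A M)
    obtain ⟨ψ, rfl⟩ := exists_desc N φ ha
    obtain ⟨e, he⟩ := principal f (hC f (Finset.mem_insert_self f s)) ψ
    refine ⟨e + a, ?_⟩
    set T := (Ideal.span ((insert f s : Finset A) : Set A)) ^ (e + a) • (⊤ : Submodule A M)
    set Re := (Ideal.span {f}) ^ e • (⊤ : Submodule A (M ⧸ N))
    have hmem : ∀ x ∈ T, N.mkQ x ∈ Re := by
      intro x hx
      have h1 : T ≤ (Ideal.span {f}) ^ e • ⊤ ⊔ N := by
        refine (Submodule.smul_mono_left ?_).trans (Submodule.sup_smul _ _ _).le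
        rw [Finset.coe_insert, Ideal.span_insert]
        exact Ideal.sup_pow_add_le_pow_sup_pow
      obtain ⟨y, hy, z, hz, rfl⟩ := Submodule.mem_sup.1 (h1 hx)
      rw [map_add, show N.mkQ z = 0 from (Submodule.Quotient.mk_eq_zero N).2 hz, add_zero]
      have := Submodule.mem_map_of_mem (f := N.mkQ) hy
      rw [Submodule.map_smul'', Submodule.map_top, Submodule.range_mkQ] at this
      exact this
    let ρ : T →ₗ[A] Re := (N.mkQ ∘ₗ T.subtype).codRestrict Re fun x => hmem x x.2
    have hρ : ModuleCat.ofHom T.subtype ≫ ModuleCat.ofHom N.mkQ =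
        ModuleCat.ofHom ρ ≫ ModuleCat.ofHom Re.subtype := rfl
    rw [← Functor.map_comp_assoc, hρ, Functor.map_comp_assoc, he, comp_zero]

/-- a cone of `j` is killed by `(f*f)` if `f` factors through `j` on both sides -/
lemma cone_killed {X Y C : Dual.D A} {j : X ⟶ Y} {w : Y ⟶ C} {δ : C ⟶ X⟦(1 : ℤ)⟧}
    (hT : Triangle.mk j w δ ∈ distTriang (Dual.D A)) (f : A) (h : Y ⟶ X)
    (h1 : h ≫ j = f • 𝟙 Y) (h2 : j ≫ h = f • 𝟙 X) : (f * f) • 𝟙 C = 0 := by
  have hjw : j ≫ w = 0 := comp_distTriang_mor_zero₁₂ _ hT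
  have hδj : δ ≫ j⟦(1 : ℤ)⟧' = 0 := comp_distTriang_mor_zero₃₁ _ hT
  have hw : w ≫ (f • 𝟙 C) = 0 := by
    rw [Linear.comp_smul, Category.comp_id, ← Category.id_comp w, ← Linear.smul_comp, ← h1,
      Category.assoc, hjw, comp_zero]
  obtain ⟨t, ht⟩ := Triangle.yoneda_exact₃ _ hT (f • 𝟙 C) hw
  change f • 𝟙 C = δ ≫ t at ht
  have hδ : f • δ = 0 := by
    rw [← Category.comp_id δ, ← Linear.comp_smul, ← (shiftFunctor (Dual.D A) (1 : ℤ)).map_id,
      ← Functor.map_smul, ← h2, Functor.map_comp, reassoc_of% hδj, zero_comp]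
  rw [mul_smul, ht, ← Linear.smul_comp, hδ, zero_comp]

lemma smul_id_tensor (K L : DRing.Cx A) (f : A) :
    (DTen.tensorT A).map (Prod.mkHom (f • 𝟙 K) (𝟙 L)) = f • 𝟙 ((DTen.tensorT A).obj (K, L)) := by
  change (f • 𝟙 K) ▷ L ≫ K ◁ (𝟙 L) = _
  rw [MonoidalCategory.whiskerLeft_id]
  erw [Category.comp_id]
  refine HomologicalComplex.hom_ext _ _ (fun n => HomologicalComplex.mapBifunctor.hom_ext (fun p q h => ?_))
  erw [HomologicalComplex.ι_mapBifunctorMap]
  simp
  rfl

/-- the derived tensor product is `A`-linear on `f • 𝟙` in the first variable -/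
lemma LTen_map_smul [DTen.HasLTen A] (K L : Dual.D A) (f : A) :
    (DTen.LTen₂ A).map (Prod.mkHom (f • 𝟙 K) (𝟙 L)) = f • 𝟙 ((DTen.LTen₂ A).obj (K, L)) := by
  let τ₁ : DTen.LTen₂ A ⟶ DTen.LTen₂ A :=
    { app := fun X => (DTen.LTen₂ A).map (Prod.mkHom (f • 𝟙 X.1) (𝟙 X.2))
      naturality := fun X Y g => by
        rw [← Functor.map_comp, ← Functor.map_comp]
        congr 1
        refine Prod.ext ?_ ?_ <;> simp }
  let τ₂ : DTen.LTen₂ A ⟶ DTen.LTen₂ A := { app := fun X => f • 𝟙 _ }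
  have key : τ₁ = τ₂ := by
    refine Functor.leftDerived_ext (DTen.LTen₂ A) (DTen.ε A) (DTen.qis₂ A) _ τ₁ τ₂ ?_
    refine NatTrans.ext (funext fun X => ?_)
    have e := (DTen.ε A).naturality (Prod.mkHom (f • 𝟙 X.1) (𝟙 X.2))
    have hQ : (DTen.QQ A).map (Prod.mkHom (f • 𝟙 X.1) (𝟙 X.2)) =
        Prod.mkHom (f • 𝟙 ((DTen.QQ A).obj X).1) (𝟙 ((DTen.QQ A).obj X).2) := by
      refine Prod.ext ?_ ?_
      · change (DerivedCategory.Q (C := ModuleCat.{u} A)).map (f • 𝟙 X.1) =
          f • 𝟙 ((DerivedCategory.Q (C := ModuleCat.{u} A)).obj X.1)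
        rw [Functor.map_smul, CategoryTheory.Functor.map_id]
      · exact (DerivedCategory.Q (C := ModuleCat.{u} A)).map_id X.2
    rw [Functor.comp_map, hQ] at e
    change (DTen.LTen₂ A).map _ ≫ (DTen.ε A).app X = (f • 𝟙 _) ≫ (DTen.ε A).app X
    rw [show (DTen.tensor₂ A).map (Prod.mkHom (f • 𝟙 X.1) (𝟙 X.2)) =
      DerivedCategory.Q.map ((DTen.tensorT A).map (Prod.mkHom (f • 𝟙 X.1) (𝟙 X.2))) from rfl,
      smul_id_tensor, Functor.map_smul, CategoryTheory.Functor.map_id, Linear.comp_smul] at e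
    rw [Linear.smul_comp, Category.id_comp]
    exact e.trans (by erw [Category.comp_id])
  exact congrArg (fun τ => τ.app (K, L)) key

end Groth.Agent.ArtinRees13
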